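import Cfsg.Agent.CpAutHN.Second

/-!
# Elements of order 3 of `A12` (helper755)

* `exists_inv` : every element of order 3 commutes with an involution;
* `exists_four` : those which do not move exactly nine points commute with two commuting involutions;
* `card_dvd_nine` : a group all of whose non-trivial elements move exactly nine of the twelve points has order dividing 9.
-/

set_option autoImplicit false

namespace Cfsg.Agent.H755.CC.HNPerm

open Equiv Equiv.Perm Subgroup
open Cfsg.Agent.CpAutHN.Alt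

/-- permutations -/
abbrev P12 : Type := Equiv.Perm (Fin 12)

theorem cycleType_of {f : P12} (hf : orderOf f = 3) :
    ∃ n : ℕ, f.cycleType = Multiset.replicate (n + 1) 3 ∧ f.support.card = 3 * (n + 1) := by
  obtain ⟨n, hn⟩ := cycleType_prime_order (σ := f) (by rw [hf]; norm_num)
  rw [hf] at hn
  refine ⟨n, hn, ?_⟩
  rw [← sum_cycleType, hn, Multiset.sum_replicate, smul_eq_mul, mul_comm]

theorem conj_of_card {f g : P12} (hf : orderOf f = 3) (hg : orderOf g = 3) (h : f.support.card = g.support.card) :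
    ∃ c : P12, c * g * c⁻¹ = f := by
  obtain ⟨n, hn, hn'⟩ := cycleType_of hf
  obtain ⟨m, hm, hm'⟩ := cycleType_of hg
  have h1 : n = m := by omega
  rw [h1, ← hm] at hn
  exact isConj_iff.1 (isConj_iff_cycleType_eq.2 hn.symm)

theorem card_cases {f : P12} (hf : orderOf f = 3) :
    f.support.card = 3 ∨ f.support.card = 6 ∨ f.support.card = 9 ∨ f.support.card = 12 := by
  obtain ⟨n, -, hn⟩ := cycleType_of hf
  have h1 : f.support.card ≤ 12 := by
    have := Finset.card_le_univ f.support
    rwa [Fintype.card_fin] at this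
  omega

theorem order_three {g : P12} (h : g ^ 3 = 1) (h1 : g ≠ 1) : orderOf g = 3 :=
  orderOf_eq_prime h h1

theorem transport {f g a : P12} (ha : sign a = 1) (ha2 : a * a = 1) (ha1 : a ≠ 1) (hag : a * g = g * a) {c : P12}
    (hc : c * g * c⁻¹ = f) : sign (c * a * c⁻¹) = 1 ∧ c * a * c⁻¹ * (c * a * c⁻¹) = 1 ∧ c * a * c⁻¹ ≠ 1 ∧
      c * a * c⁻¹ * f = f * (c * a * c⁻¹) := by
  refine ⟨?_, ?_, ?_, ?_⟩
  · rw [Perm.sign_mul, Perm.sign_mul, ha, mul_one, ← Perm.sign_mul, mul_inv_cancel, Perm.sign_one]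
  · calc c * a * c⁻¹ * (c * a * c⁻¹) = c * (a * a) * c⁻¹ := by group
      _ = 1 := by rw [ha2]; group
  · rwa [Ne, conj_eq_one_iff]
  · rw [← hc]
    calc c * a * c⁻¹ * (c * g * c⁻¹) = c * (a * g) * c⁻¹ := by group
      _ = c * (g * a) * c⁻¹ := by rw [hag]
      _ = _ := by group

/-- `(0 1 2)` -/
def g1 : P12 := cy [0, 1, 2]
/-- `(0 1 2)(3 4 5)` -/
def g2 : P12 := cy [0, 1, 2] * cy [3, 4, 5]
/-- `(0 1 2)(3 4 5)(6 7 8)(9 10 11)` -/
def g4 : P12 := cy [0, 1, 2] * cy [3, 4, 5] * cy [6, 7, 8] * cy [9, 10, 11]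
/-- for `g1` -/
def a1 : P12 := cy [3, 4] * cy [5, 6]
/-- for `g1` -/
def b1 : P12 := cy [3, 5] * cy [4, 6]
/-- for `g2` -/
def a2 : P12 := cy [6, 7] * cy [8, 9]
/-- for `g2` -/
def b2 : P12 := cy [6, 8] * cy [7, 9]
/-- for `g4` -/
def a4 : P12 := cy [0, 3] * cy [1, 4] * cy [2, 5] * cy [6, 9] * cy [7, 10] * cy [8, 11]
/-- for `g4` -/
def b4 : P12 := cy [0, 6] * cy [1, 7] * cy [2, 8] * cy [3, 9] * cy [4, 10] * cy [5, 11]

theorem og1 : orderOf g1 = 3 := order_three (by decide +kernel) (by decide +kernel)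
theorem og2 : orderOf g2 = 3 := order_three (by decide +kernel) (by decide +kernel)
theorem og3 : orderOf x3 = 3 := order_three (by decide +kernel) (by decide +kernel)
theorem og4 : orderOf g4 = 3 := order_three (by decide +kernel) (by decide +kernel)
theorem cg1 : g1.support.card = 3 := by decide +kernel
theorem cg2 : g2.support.card = 6 := by decide +kernel
theorem cg3 : x3.support.card = 9 := by decide +kernel
theorem cg4 : g4.support.card = 12 := by decide +kernel

theorem four_of {f g a b : P12} (hf : orderOf f = 3) (hg : orderOf g = 3) (h : f.support.card = g.support.card)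
    (ha : sign a = 1) (ha2 : a * a = 1) (ha1 : a ≠ 1) (hag : a * g = g * a)
    (hb : sign b = 1) (hb2 : b * b = 1) (hb1 : b ≠ 1) (hbg : b * g = g * b) (hab : a * b = b * a) (hne : a ≠ b) :
    ∃ a b : P12, sign a = 1 ∧ a * a = 1 ∧ a ≠ 1 ∧ a * f = f * a ∧ sign b = 1 ∧ b * b = 1 ∧ b ≠ 1 ∧ b * f = f * b ∧
      a * b = b * a ∧ a ≠ b := by
  obtain ⟨c, hc⟩ := conj_of_card hf hg h
  obtain ⟨h1, h2, h3, h4⟩ := transport ha ha2 ha1 hag hc
  obtain ⟨h5, h6, h7, h8⟩ := transport hb hb2 hb1 hbg hc
  refine ⟨_, _, h1, h2, h3, h4, h5, h6, h7, h8, ?_, ?_⟩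
  · calc c * a * c⁻¹ * (c * b * c⁻¹) = c * (a * b) * c⁻¹ := by group
      _ = c * (b * a) * c⁻¹ := by rw [hab]
      _ = _ := by group
  · intro h9
    exact hne (mul_left_cancel (mul_right_cancel h9))

theorem exists_four' {f : P12} (hf : orderOf f = 3) (hn : f.support.card ≠ 9) :
    ∃ a b : P12, sign a = 1 ∧ a * a = 1 ∧ a ≠ 1 ∧ a * f = f * a ∧ sign b = 1 ∧ b * b = 1 ∧ b ≠ 1 ∧ b * f = f * b ∧
      a * b = b * a ∧ a ≠ b := by
  rcases card_cases hf with h | h | h | h
  · exact four_of (a := a1) (b := b1) hf og1 (h.trans cg1.symm) (by decide +kernel) (by decide +kernel)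
      (by decide +kernel) (by decide +kernel) (by decide +kernel) (by decide +kernel) (by decide +kernel)
      (by decide +kernel) (by decide +kernel) (by decide +kernel)
  · exact four_of (a := a2) (b := b2) hf og2 (h.trans cg2.symm) (by decide +kernel) (by decide +kernel)
      (by decide +kernel) (by decide +kernel) (by decide +kernel) (by decide +kernel) (by decide +kernel)
      (by decide +kernel) (by decide +kernel) (by decide +kernel)
  · exact absurd h hn
  · exact four_of (a := a4) (b := b4) hf og4 (h.trans cg4.symm) (by decide +kernel) (by decide +kernel)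
      (by decide +kernel) (by decide +kernel) (by decide +kernel) (by decide +kernel) (by decide +kernel)
      (by decide +kernel) (by decide +kernel) (by decide +kernel)

theorem exists_inv' {f : P12} (hf : orderOf f = 3) :
    ∃ a : P12, sign a = 1 ∧ a * a = 1 ∧ a ≠ 1 ∧ a * f = f * a := by
  by_cases h : f.support.card = 9
  · obtain ⟨c, hc⟩ := conj_of_card hf og3 (h.trans cg3.symm)
    obtain ⟨h1, h2, h3, h4⟩ := transport (a := s3) (by decide +kernel) (by decide +kernel) (by decide +kernel)
      (by decide +kernel) hc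
    exact ⟨_, h1, h2, h3, h4⟩
  · obtain ⟨a, b, h1, h2, h3, h4, -⟩ := exists_four' hf h
    exact ⟨a, h1, h2, h3, h4⟩

theorem order_A {f : A12} : orderOf (f : P12) = orderOf f := Subgroup.orderOf_coe f

theorem order_two {a : P12} (h : sign a = 1) (h2 : a * a = 1) (h1 : a ≠ 1) :
    orderOf (⟨a, mem_alternatingGroup.2 h⟩ : A12) = 2 := by
  apply orderOf_eq_prime
  · apply Subtype.ext
    rw [pow_two]
    exact h2
  · intro h3
    exact h1 (congrArg Subtype.val h3)

/-- every element of order 3 commutes with an involution -/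
theorem exists_inv {f : A12} (hf : orderOf f = 3) : ∃ u : A12, orderOf u = 2 ∧ u * f = f * u := by
  obtain ⟨a, h1, h2, h3, h4⟩ := exists_inv' (f := (f : P12)) (by rw [order_A, hf])
  exact ⟨⟨a, mem_alternatingGroup.2 h1⟩, order_two h1 h2 h3, Subtype.ext h4⟩

/-- elements of order 3 not moving exactly nine points commute with two commuting involutions -/
theorem exists_four {f : A12} (hf : orderOf f = 3) (hn : (f : P12).support.card ≠ 9) :
    ∃ a b : A12, orderOf a = 2 ∧ a * f = f * a ∧ orderOf b = 2 ∧ b * f = f * b ∧ a * b = b * a ∧ a ≠ b := by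
  obtain ⟨a, b, h1, h2, h3, h4, h5, h6, h7, h8, h9, h10⟩ := exists_four' (f := (f : P12)) (by rw [order_A, hf]) hn
  refine ⟨⟨a, mem_alternatingGroup.2 h1⟩, ⟨b, mem_alternatingGroup.2 h5⟩, order_two h1 h2 h3, Subtype.ext h4,
    order_two h5 h6 h7, Subtype.ext h8, Subtype.ext h9, fun h => h10 (congrArg Subtype.val h)⟩

/-- **Burnside's lemma.** -/
theorem card_dvd_nine (U : Subgroup A12) (h : ∀ f ∈ U, f ≠ 1 → (f : P12).support.card = 9) : Nat.card U ∣ 9 := by
  classical
  have : Fintype U := Fintype.ofFinite U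
  have : Fintype (MulAction.orbitRel.Quotient U (Fin 12)) := Fintype.ofFinite _
  have h1 := MulAction.sum_card_fixedBy_eq_card_orbits_mul_card_group (G := U) (X := Fin 12)
  have h2 : ∀ f : U, Fintype.card (MulAction.fixedBy (Fin 12) f) = if f = 1 then 12 else 3 := by
    intro f
    by_cases hf : f = 1
    · subst hf
      rw [if_pos rfl]
      rw [Fintype.card_congr (Equiv.setCongr (MulAction.fixedBy_one_eq_univ (Fin 12) U))]
      simp
    · rw [if_neg hf]
      have h3 := h f f.2 (fun h4 => hf (Subtype.ext h4))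
      have h4 := card_fixedPoints ((f : A12) : P12)
      rw [sum_cycleType, h3, Fintype.card_fin] at h4
      have h5 : Fintype.card (MulAction.fixedBy (Fin 12) f) = Fintype.card (Function.fixedPoints ((f : A12) : P12)) :=
        Fintype.card_congr (Equiv.setCongr rfl)
      rw [h5, h4]
  rw [Finset.sum_congr rfl (fun f _ => h2 f)] at h1
  rw [← Finset.add_sum_erase Finset.univ _ (Finset.mem_univ (1 : U)), if_pos rfl,
    Finset.sum_congr rfl (fun f hf => if_neg (Finset.ne_of_mem_erase hf)), Finset.sum_const,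
    Finset.card_erase_of_mem (Finset.mem_univ _), Finset.card_univ] at h1
  rw [Nat.card_eq_fintype_card]
  have h3 : 0 < Fintype.card U := Fintype.card_pos
  generalize Fintype.card U = n at h1 h3
  generalize Fintype.card (MulAction.orbitRel.Quotient U (Fin 12)) = m at h1
  have h4 : 9 + 3 * n = m * n := by
    rw [← h1, smul_eq_mul]
    omega
  have h5 : n ∣ 9 + 3 * n := ⟨m, by rw [h4, mul_comm]⟩
  exact (Nat.dvd_add_left (Dvd.intro_left 3 rfl)).1 h5

end Cfsg.Agent.H755.CC.HNPerm
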