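import Cfsg.Agent.H755.CC.HNBase
import Cfsg.Agent.H755.CC.HNPerm
import Cfsg.Agent.Transfer.PGroupNormal

/-!
# The row `CRow 3 HN` (helper755)

`A12 ≤ HN` contains a subgroup `R` of index 3 of a Sylow 3-subgroup `P`; `C ∩ A12 = 1`, so `C ∩ P` is commutative and generates
an elementary abelian group `W`. No non-trivial element of `C` commutes with an element of the second type; hence
`W ∩ A12` has order at most 9 and `W` has order at most 27, and the elements of order 5 of `C(r)`, `r ∈ Z(P) ∩ A12`, centralise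
`W`.
-/

set_option autoImplicit false

namespace Cfsg.Agent.H755.CC.HNThree

open Subgroup Cfsg Cfsg.Agent.H162.CCR Cfsg.Agent.Lib.Cores Cfsg.Agent.H755.CC.HNB
open Cfsg.Agent.HN.XWords (W0 W0_sq)
open Cfsg.Agent.CpAutHN.Alt (A12 Φ Φ_inj)
open Cfsg.Agent.CpAutHN.Pairs (T1 T2 T1_or_T2 exists_two X1 order_X1 t2_x1 T1.unique T2.conj order_sub order_conj)
open Cfsg.Agent.CpAutHN.NineAlt (A9 card_A9)
open Cfsg.Agent.CpAutHN.Second (Ψ Ψ_inj card_range simple_range)
open Cfsg.Agent.CpAutHN.LqFacts (c0)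
open Cfsg.Agent.CpAutHN.PPFacts (isPGroup_ker)
open Cfsg.Agent.KFacts.HN (PP mem_PP ρ ρ_surj φA φB comm_AB φB_inj)

attribute [local instance] finite_G simple_G

local instance : Fact (Nat.Prime 3) := ⟨Nat.prime_three⟩
local instance : Fact (Nat.Prime 5) := ⟨Nat.prime_five⟩

/-! ### elements of order 5 acting on groups of order at most 27 -/

theorem five_comm {H : Type*} [Group H] {U : Subgroup H} {f : H} (hU : Nat.card U ∣ 27) (hf : f ^ 5 = 1)
    (hn : ∀ u ∈ U, f * u * f⁻¹ ∈ U) : ∀ u ∈ U, f * u = u * f := by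
  classical
  have hfin : Finite U := Nat.finite_of_card_ne_zero (fun h => by rw [h] at hU; norm_num at hU)
  have : Fintype U := Fintype.ofFinite U
  let σ : Function.End U := fun u => ⟨f * u * f⁻¹, hn u u.2⟩
  have hσ : ∀ (n : ℕ) (u : U), (((σ ^ n) u : U) : H) = f ^ n * u * (f ^ n)⁻¹ := by
    intro n
    induction n with
    | zero =>
      intro u
      rw [pow_zero, pow_zero, one_mul, inv_one, mul_one]
      rfl
    | succ n ih =>
      intro u
      have h1 : (σ ^ (n + 1)) u = (σ ^ n) (σ u) := by rw [pow_succ]; rfl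
      rw [h1, ih, pow_succ]
      change f ^ n * (f * u * f⁻¹) * (f ^ n)⁻¹ = _
      group
  have h5 : σ ^ 5 ^ 1 = 1 := by
    funext u
    apply Subtype.ext
    rw [pow_one, hσ, hf, one_mul, inv_one, mul_one]
    rfl
  have h1 := Equiv.Perm.card_fixedPoints_modEq (p := 5) (n := 1) h5
  let V : Subgroup U := (centralizer ({f} : Set H)).subgroupOf U
  have h2 : Fintype.card (Function.fixedPoints σ) = Nat.card V := by
    rw [Nat.card_eq_fintype_card]
    refine Fintype.card_congr (Equiv.subtypeEquivRight fun u => ?_)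
    rw [Function.mem_fixedPoints_iff, mem_subgroupOf, mem_centralizer_singleton_iff]
    constructor
    · intro h
      have h3 : f * u * f⁻¹ = u := congrArg Subtype.val h
      exact (mul_inv_eq_iff_eq_mul.1 h3).symm
    · intro h
      apply Subtype.ext
      exact mul_inv_eq_iff_eq_mul.2 h.symm
  rw [← Nat.card_eq_fintype_card, h2] at h1
  have h3 : ∀ a ∈ Nat.divisors 27, ∀ b ∈ Nat.divisors 27, a ≡ b [MOD 5] → a = b := by decide
  have h4 := h3 _ (Nat.mem_divisors.2 ⟨hU, by norm_num⟩) _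
    (Nat.mem_divisors.2 ⟨(Subgroup.card_subgroup_dvd_card V).trans hU, by norm_num⟩) h1
  have h6 : V = ⊤ := Subgroup.eq_top_of_card_eq V h4.symm
  intro u hu
  have h7 : (⟨u, hu⟩ : U) ∈ V := by rw [h6]; trivial
  exact (mem_centralizer_singleton_iff.1 h7).symm

/-! ### elements commuting with elements of `C` -/

theorem odd_of_comm {C : Set G} (h : Min 3 C) {e g : G} (he : e ∈ C) (he1 : e ≠ 1) (hg : g * e = e * g) :
    Odd (orderOf g) := by
  have h1 := h.odd_centralizer (core_inv (by norm_num)) he he1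
  have h2 : g ∈ centralizer ({e} : Set G) := mem_centralizer_singleton_iff.2 hg
  have h3 := orderOf_dvd_natCard (⟨g, h2⟩ : centralizer ({e} : Set G))
  rw [← Subgroup.orderOf_coe] at h3
  exact h1.of_dvd_nat h3

/-! ### elements of the second type -/

/-- 5-cycles -/
def pa : Equiv.Perm (Fin 9) := Cfsg.Agent.CpAutHN.NineAlt.cy9 [0, 1, 2, 3, 4]
/-- 5-cycles -/
def pb : Equiv.Perm (Fin 9) := Cfsg.Agent.CpAutHN.NineAlt.cy9 [0, 1, 2, 4, 3]

theorem pa_mem : pa ∈ alternatingGroup (Fin 9) := by rw [Equiv.Perm.mem_alternatingGroup]; decide +kernel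
theorem pb_mem : pb ∈ alternatingGroup (Fin 9) := by rw [Equiv.Perm.mem_alternatingGroup]; decide +kernel

/-- 5-cycle -/
def ea : A9 := ⟨pa, pa_mem⟩
/-- 5-cycle -/
def eb : A9 := ⟨pb, pb_mem⟩

theorem ea5 : ea ^ 5 = 1 := Subtype.ext (by change pa ^ 5 = 1; decide +kernel)
theorem eb5 : eb ^ 5 = 1 := Subtype.ext (by change pb ^ 5 = 1; decide +kernel)
theorem eab : orderOf (ea * eb) = 2 := by
  apply orderOf_eq_prime
  · exact Subtype.ext (by change (pa * pb) ^ 2 = 1; decide +kernel)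
  · intro h
    have h1 : pa * pb = 1 := congrArg Subtype.val h
    exact absurd h1 (by decide +kernel)

theorem card_core_X1 : Nat.card (pCore 3 (centralizer ({X1} : Set G))) ∣ 9 := by
  have hs := simple_range
  let K := centralizer ({X1} : Set G)
  let Q : Subgroup K := pCore 3 K
  have hQp : IsPGroup 3 Q := pCore_isPGroup 3
  have hQn : Q.Normal := inferInstance
  -- the intersection with the simple group
  have hint : Q.subgroupOf Ψ.range = ⊥ := by
    rcases (inferInstance : (Q.subgroupOf Ψ.range).Normal).eq_bot_or_eq_top with h | h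
    · exact h
    · exfalso
      have h1 : Ψ.range ≤ Q := by rwa [subgroupOf_eq_top] at h
      have h2 : IsPGroup 3 Ψ.range := hQp.to_le h1
      obtain ⟨n, hn⟩ := IsPGroup.iff_card.1 h2
      rw [card_range] at hn
      have h3 : 2 ∣ 3 ^ n := by rw [← hn]; norm_num
      exact absurd (Nat.prime_two.dvd_of_dvd_pow h3) (by norm_num)
  have hdvd : Nat.card Ψ.range ∣ Q.index := by
    have h1 : Q.relIndex Ψ.range = Nat.card Ψ.range := by
      rw [relIndex, hint, index_bot]
    rw [← h1]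
    exact relIndex_dvd_index_of_normal Q Ψ.range
  obtain ⟨n, hn⟩ := IsPGroup.iff_card.1 hQp
  have h1 : Nat.card Q * Q.index = Nat.card K := Q.card_mul_index
  have h2 : 3 ^ n * 181440 ∣ 273030912000000 := by
    rw [← card_G, ← hn, ← card_range]
    refine (Nat.mul_dvd_mul_left _ hdvd).trans ?_
    rw [h1]
    exact Subgroup.card_subgroup_dvd_card _
  have h3 : n ≤ 2 := by
    by_contra h4
    have h5 : 3 ^ 3 * 181440 ∣ 273030912000000 := (Nat.mul_dvd_mul_right (pow_dvd_pow 3 (by omega)) _).trans h2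
    norm_num at h5
  change Nat.card Q ∣ 9
  rw [hn]
  exact pow_dvd_pow 3 h3

theorem no_X1 {C : Set G} (h : Min 3 C) {e : G} (he : e ∈ C) (he1 : e ≠ 1) (hex : e * X1 = X1 * e) : False := by
  let K := centralizer ({X1} : Set G)
  have hK : K ≠ ⊤ := centralizer_ne_top (fun h1 => by
    have := order_X1
    rw [h1, orderOf_one] at this
    norm_num at this)
  have heK : e ∈ K := mem_centralizer_singleton_iff.2 hex
  have h1 : (⟨e, heK⟩ : K) ∈ pCore 3 K := h.loc K hK e he heK
  have h2 : ∀ a : A9, a ^ 5 = 1 → Ψ a * ⟨e, heK⟩ = ⟨e, heK⟩ * Ψ a := by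
    intro a ha
    refine five_comm (U := pCore 3 K) (card_core_X1.trans (by norm_num)) (by rw [← map_pow, ha, map_one]) ?_ _ h1
    intro u hu
    exact (inferInstance : (pCore 3 K).Normal).conj_mem _ hu _
  have h3 : Ψ (ea * eb) * ⟨e, heK⟩ = ⟨e, heK⟩ * Ψ (ea * eb) := by
    rw [map_mul, mul_assoc, h2 eb eb5, ← mul_assoc, h2 ea ea5, mul_assoc]
  have h4 := odd_of_comm h he he1 (g := (Ψ (ea * eb) : G)) (congrArg Subtype.val h3)
  rw [Subgroup.orderOf_coe, orderOf_injective Ψ Ψ_inj, eab] at h4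
  exact absurd h4 (by decide)

/-- no non-trivial element of `C` commutes with an element of the second type -/
theorem no_T2 {C : Set G} (h : Min 3 C) {e x s : G} (he : e ∈ C) (he1 : e ≠ 1) (hx : orderOf x = 3) (hT : T2 x s)
    (hex : e * x = x * e) : False := by
  obtain ⟨c, hcx, -⟩ := hT.conj hx order_X1 t2_x1
  refine no_X1 h (h.conj c e he) (fun h1 => he1 (conj_eq_one_iff.1 h1)) ?_
  rw [← hcx]
  calc c * e * c⁻¹ * (c * x * c⁻¹) = c * (e * x) * c⁻¹ := by group
    _ = c * (x * e) * c⁻¹ := by rw [hex]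
    _ = _ := by group

/-- elements commuting with a four-group are of the second type -/
theorem support_nine {f : A12} (hf : orderOf f = 3) (hno : ∀ s, ¬ T2 (Φ f) s) :
    (f : HNPerm.P12).support.card = 9 := by
  by_contra hn
  obtain ⟨a, b, ha, haf, hb, hbf, hab, hne⟩ := HNPerm.exists_four hf hn
  have h3 : orderOf (Φ f) = 3 := by rw [orderOf_injective Φ Φ_inj, hf]
  have hΦ : ∀ {x y : A12}, x * y = y * x → Φ x * Φ y = Φ y * Φ x := fun h => by rw [← map_mul, h, map_mul]
  obtain ⟨s, hs, hc⟩ := exists_two h3 (u := Φ a) (by rw [orderOf_injective Φ Φ_inj, ha]) (hΦ haf.symm)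
  rcases T1_or_T2 h3 hs hc with h | h
  · -- 2-rank one
    have hs2 : orderOf s = 2 := by
      obtain ⟨c, hc⟩ := isConj_iff.1 hs
      rw [← orderOf_W0, ← hc]
      exact (MulEquiv.orderOf_eq (MulAut.conj c) s).symm
    let s' : ↥(centralizer ({Φ f} : Set G)) := ⟨s, mem_centralizer_singleton_iff.2 hc.symm⟩
    have hs' : orderOf s' = 2 := by rw [← Subgroup.orderOf_coe]; exact hs2
    have hone : Cfsg.Agent.CpAutHN.RankOne.One ↥(centralizer ({Φ f} : Set G)) := by
      refine (Cfsg.Agent.CpAutTh.RankOne.uInv_of_unique hs' ?_).1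
      intro u hu hus
      apply Subtype.ext
      exact h.unique (by rw [Subgroup.orderOf_coe]; exact hu) (mem_centralizer_singleton_iff.1 u.2)
        (congrArg Subtype.val hus)
    have h4 := hone ⟨Φ a, mem_centralizer_singleton_iff.2 (hΦ haf)⟩ ⟨Φ b, mem_centralizer_singleton_iff.2 (hΦ hbf)⟩
      (by rw [← Subgroup.orderOf_coe, Subgroup.coe_mk, orderOf_injective Φ Φ_inj, ha])
      (by rw [← Subgroup.orderOf_coe, Subgroup.coe_mk, orderOf_injective Φ Φ_inj, hb])
      (Subtype.ext (hΦ hab))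
    exact hne (Φ_inj (congrArg Subtype.val h4))
  · exact hno s h

/-! ### elements of the first type -/

theorem exists_lift {x : PP} (hx : orderOf x = 3) (hρ : ρ x = φA c0) (b : Cfsg.Agent.KFacts.HN.A5) (hb : b ^ 5 = 1) :
    ∃ f : PP, f ^ 5 = 1 ∧ f * x = x * f ∧ ρ f = φB b := by
  obtain ⟨y, hy⟩ := ρ_surj (φB b)
  have h1 : ρ (y * x * y⁻¹) = ρ x := by
    rw [map_mul, map_mul, map_inv, hy, hρ, ← comm_AB, mul_inv_cancel_right]
  have h2 : orderOf (y * x * y⁻¹) = 3 := by
    rw [← hx]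
    exact MulEquiv.orderOf_eq (MulAut.conj y) x
  obtain ⟨q, hq, hqx⟩ := Cfsg.Agent.CpAutTh.RankOne.conj_of_quot Nat.prime_two Nat.prime_three (by norm_num) ρ
    isPGroup_ker h2 hx h1
  have hz : (q * y) * x = x * (q * y) := by
    have h3 : (q * y) * x * (q * y)⁻¹ = x := by
      calc (q * y) * x * (q * y)⁻¹ = q * (y * x * y⁻¹) * q⁻¹ := by group
        _ = x := hqx
    exact mul_inv_eq_iff_eq_mul.1 h3
  have hρz : ρ (q * y) = φB b := by
    rw [map_mul, hy, MonoidHom.mem_ker.1 hq, one_mul]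
  have h4 : (q * y) ^ 5 ∈ ρ.ker := by
    rw [MonoidHom.mem_ker, map_pow, hρz, ← map_pow, hb, map_one]
  obtain ⟨m, hm⟩ := isPGroup_ker ⟨_, h4⟩
  have hm' : ((q * y) ^ 5) ^ 2 ^ m = 1 := congrArg Subtype.val hm
  -- the power
  refine ⟨(q * y) ^ 16 ^ m, ?_, ?_, ?_⟩
  · rw [← pow_mul, mul_comm, pow_mul, show (16 : ℕ) = 2 * 8 by norm_num, mul_pow, pow_mul, hm', one_pow]
  · have h5 : Commute (q * y) x := hz
    exact (h5.pow_left _).eq
  · rw [map_pow, hρz]
    have h5 : 16 ^ m % 5 = 1 := by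
      rw [Nat.pow_mod]
      norm_num
    rw [← map_pow, ← Nat.div_add_mod (16 ^ m) 5, h5, pow_add, pow_mul, hb, one_pow, one_mul, pow_one]

/-- 5-cycle of degree 5 -/
def qa : Equiv.Perm (Fin 5) := ([0, 1, 2, 3, 4] : List (Fin 5)).formPerm
/-- 5-cycle of degree 5 -/
def qb : Equiv.Perm (Fin 5) := ([0, 1, 2, 4, 3] : List (Fin 5)).formPerm
theorem qa_mem : qa ∈ alternatingGroup (Fin 5) := by rw [Equiv.Perm.mem_alternatingGroup]; decide +kernel
theorem qb_mem : qb ∈ alternatingGroup (Fin 5) := by rw [Equiv.Perm.mem_alternatingGroup]; decide +kernel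

/-- the centraliser of an element of the first type is generated by elements of order 5 -/
theorem exists_fives {x s : G} (hx : orderOf x = 3) (h : T1 x s) :
    ∃ f₁ f₂ : G, f₁ ^ 5 = 1 ∧ f₁ * x = x * f₁ ∧ f₂ ^ 5 = 1 ∧ f₂ * x = x * f₂ ∧ ¬ Odd (orderOf (f₁ * f₂)) := by
  obtain ⟨g, hg, -, hρ⟩ := h
  have hx' := order_sub hg (order_conj hx g)
  obtain ⟨u, hu5, hux, hu⟩ := exists_lift hx' hρ ⟨qa, qa_mem⟩ (Subtype.ext (by change qa ^ 5 = 1; decide +kernel))
  obtain ⟨v, hv5, hvx, hv⟩ := exists_lift hx' hρ ⟨qb, qb_mem⟩ (Subtype.ext (by change qb ^ 5 = 1; decide +kernel))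
  have hc : ∀ w : PP, w * ⟨g * x * g⁻¹, hg⟩ = ⟨g * x * g⁻¹, hg⟩ * w → (g⁻¹ * (w : G) * g) * x = x * (g⁻¹ * (w : G) * g) := by
    intro w hw
    have h1 : (w : G) * (g * x * g⁻¹) = (g * x * g⁻¹) * w := congrArg Subtype.val hw
    calc (g⁻¹ * (w : G) * g) * x = g⁻¹ * ((w : G) * (g * x * g⁻¹)) * g := by group
      _ = g⁻¹ * ((g * x * g⁻¹) * w) * g := by rw [h1]
      _ = _ := by group
  have hp : ∀ w : PP, w ^ 5 = 1 → (g⁻¹ * (w : G) * g) ^ 5 = 1 := by
    intro w hw
    have h1 : (w : G) ^ 5 = 1 := congrArg Subtype.val hw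
    have h2 : (g⁻¹ * (w : G) * g) ^ 5 = g⁻¹ * (w : G) ^ 5 * g := by
      have := conj_pow (a := g⁻¹) (b := (w : G)) (i := 5)
      rwa [inv_inv] at this
    rw [h2, h1]
    group
  refine ⟨g⁻¹ * u * g, g⁻¹ * v * g, hp u hu5, hc u hux, hp v hv5, hc v hvx, ?_⟩
  intro hodd
  have h1 : g⁻¹ * (u : G) * g * (g⁻¹ * (v : G) * g) = g⁻¹ * ((u * v : PP) : G) * g := by
    rw [Subgroup.coe_mul]
    group
  have h2 : orderOf (g⁻¹ * ((u * v : PP) : G) * g) = orderOf (u * v) := by
    rw [← Subgroup.orderOf_coe (u * v)]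
    have h3 := MulEquiv.orderOf_eq (MulAut.conj g⁻¹) ((u * v : PP) : G)
    rw [MulAut.conj_apply, inv_inv] at h3
    exact h3
  rw [h1, h2] at hodd
  obtain ⟨k, hk⟩ := hodd
  have h3 : ρ (u * v) ^ (2 * k + 1) = 1 := by
    rw [← map_pow, ← hk, pow_orderOf_eq_one, map_one]
  rw [map_mul, hu, hv, ← map_mul] at h3
  have h4 : ((⟨qa, qa_mem⟩ : Cfsg.Agent.KFacts.HN.A5) * ⟨qb, qb_mem⟩) ^ 2 = 1 :=
    Subtype.ext (by change (qa * qb) ^ 2 = 1; decide +kernel)
  rw [← map_pow, pow_succ, pow_mul, h4, one_pow, one_mul] at h3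
  have h5 := φB_inj (h3.trans (map_one φB).symm)
  have h6 : qa * qb = 1 := congrArg Subtype.val h5
  exact absurd h6 (by decide +kernel)

/-! ### the row -/

theorem core_A : pCore 3 (Φ.range) = ⊥ := by
  have hs : IsSimpleGroup A12 := alternatingGroup.isSimpleGroup (by
    rw [Nat.card_eq_fintype_card, Fintype.card_fin]; norm_num)
  have hna : ¬ IsMulCommutative A12 := by
    intro hc
    let _ : CommGroup A12 := { (inferInstance : Group A12) with mul_comm := hc.is_comm.comm }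
    have := IsSimpleGroup.prime_card (α := A12)
    rw [nat_card_alternatingGroup, Nat.card_eq_fintype_card, Fintype.card_fin] at this
    revert this
    rw [show Nat.factorial 12 / 2 = 2 * 119750400 by decide]
    exact Nat.not_prime_mul (by norm_num) (by norm_num)
  exact core_congr (MonoidHom.ofInjective Φ_inj) (pCore_eq_bot_of_simple hna 3)

theorem card_A12 : Nat.card A12 = 239500800 := by
  rw [nat_card_alternatingGroup, Nat.card_eq_fintype_card, Fintype.card_fin]
  decide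

theorem card_A : Nat.card (Φ.range) = 239500800 := by
  rw [← Nat.card_congr (MonoidHom.ofInjective Φ_inj).toEquiv, card_A12]

theorem A_ne_top : (Φ.range : Subgroup G) ≠ ⊤ := by
  intro h
  have h1 := card_A
  rw [h, card_top, card_G] at h1
  norm_num at h1

/-- a Sylow 3-subgroup containing a Sylow 3-subgroup of `A12` -/
theorem exists_PR : ∃ (P : Sylow 3 G) (R : Subgroup G), R ≤ Φ.range ∧ R ≤ (P : Subgroup G) ∧
    (R.subgroupOf (P : Subgroup G)).index = 3 ∧ (R.subgroupOf (P : Subgroup G)).Normal ∧ R ≠ ⊥ := by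
  obtain ⟨S⟩ : Nonempty (Sylow 3 A12) := Sylow.nonempty
  have hS : Nat.card S = 243 := by
    rw [S.card_eq_multiplicity, card_A12, show (239500800 : ℕ) = 3 ^ 5 * 985600 by norm_num]
    have h2 : (985600 : ℕ).factorization 3 = 0 := Nat.factorization_eq_zero_of_not_dvd (by norm_num)
    rw [Nat.factorization_mul (by norm_num) (by norm_num), Nat.Prime.factorization_pow Nat.prime_three,
      Finsupp.add_apply, h2, Finsupp.single_eq_same]
    norm_num
  let R : Subgroup G := (S : Subgroup A12).map Φ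
  have hR : Nat.card R = 243 := by
    rw [← hS]
    exact (Nat.card_congr ((S : Subgroup A12).equivMapOfInjective Φ Φ_inj).toEquiv).symm
  have hRp : IsPGroup 3 R := S.2.map Φ
  obtain ⟨P, hP⟩ := hRp.exists_le_sylow
  have hPc : Nat.card P = 729 := by
    rw [P.card_eq_multiplicity, card_G, show (273030912000000 : ℕ) = 3 ^ 6 * 374528000000 by norm_num]
    have h2 : (374528000000 : ℕ).factorization 3 = 0 := Nat.factorization_eq_zero_of_not_dvd (by norm_num)
    rw [Nat.factorization_mul (by norm_num) (by norm_num), Nat.Prime.factorization_pow Nat.prime_three,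
      Finsupp.add_apply, h2, Finsupp.single_eq_same]
    norm_num
  have hi : (R.subgroupOf (P : Subgroup G)).index = 3 := by
    have h1 := (R.subgroupOf (P : Subgroup G)).card_mul_index
    have h2 : Nat.card (R.subgroupOf (P : Subgroup G)) = 243 := by
      rw [← hR]
      exact Nat.card_congr (subgroupOfEquivOfLe hP).toEquiv
    have h3 : Nat.card ((P : Subgroup G)) = 729 := hPc
    rw [h2, h3] at h1
    omega
  refine ⟨P, R, ?_, hP, hi, ?_, ?_⟩
  · rintro _ ⟨x, -, rfl⟩
    exact ⟨x, rfl⟩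
  · apply Subgroup.normal_of_index_eq_minFac_card
    have h3 : Nat.card ((P : Subgroup G)) = 729 := hPc
    rw [hi, h3]
    norm_num
  · intro h
    rw [h, card_bot] at hR
    norm_num at hR

variable {C : Set G}

/-- `C ∩ A12 = 1` -/
theorem eq_one_of_mem_A (h : Min 3 C) {c : G} (hc : c ∈ C) (hcA : c ∈ Φ.range) : c = 1 :=
  h.eq_one_of_mem A_ne_top core_A hc hcA

/-- `C ∩ P` is commutative -/
theorem comm_P (h : Min 3 C) {P : Sylow 3 G} {R : Subgroup G} (hRA : R ≤ Φ.range)
    (hi : (R.subgroupOf (P : Subgroup G)).index = 3) (hn : (R.subgroupOf (P : Subgroup G)).Normal) {c d : G}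
    (hc : c ∈ C) (hcP : c ∈ (P : Subgroup G)) (hd : d ∈ C) (hdP : d ∈ (P : Subgroup G)) : c * d = d * c := by
  have hcy : IsCyclic ((P : Subgroup G) ⧸ R.subgroupOf (P : Subgroup G)) := by
    exact isCyclic_of_prime_card (p := 3) hi
  obtain ⟨g, hg⟩ := hcy.exists_generator
  have hab : ∀ x y : (P : Subgroup G) ⧸ R.subgroupOf (P : Subgroup G), x * y = y * x := by
    intro x y
    obtain ⟨i, rfl⟩ := hg x
    obtain ⟨j, rfl⟩ := hg y
    change g ^ i * g ^ j = g ^ j * g ^ i
    rw [← zpow_add, add_comm, zpow_add]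
  have h1 : (⟨c, hcP⟩ : (P : Subgroup G))⁻¹ * (⟨d, hdP⟩ : (P : Subgroup G))⁻¹ * ⟨c, hcP⟩ * ⟨d, hdP⟩ ∈
      R.subgroupOf (P : Subgroup G) := by
    rw [← QuotientGroup.eq_one_iff]
    change QuotientGroup.mk' _ _ = 1
    rw [map_mul, map_mul, map_mul, map_inv, map_inv, hab _ (QuotientGroup.mk' _ ⟨d, hdP⟩),
      hab (QuotientGroup.mk' _ ⟨c, hcP⟩)⁻¹]
    group
  have h2 : c⁻¹ * d⁻¹ * c * d = 1 := eq_one_of_mem_A h (h.comm c hc d hd) (hRA h1)
  calc c * d = d * c * (c⁻¹ * d⁻¹ * c * d) := by group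
    _ = d * c := by rw [h2, mul_one]

/-- cubes lie in `R` -/
theorem cube_mem {P : Sylow 3 G} {R : Subgroup G}
    (hi : (R.subgroupOf (P : Subgroup G)).index = 3) (hn : (R.subgroupOf (P : Subgroup G)).Normal) {x : G}
    (hx : x ∈ (P : Subgroup G)) : x ^ 3 ∈ R := by
  have h1 := Subgroup.pow_index_mem (R.subgroupOf (P : Subgroup G)) (⟨x, hx⟩ : (P : Subgroup G))
  rw [hi] at h1
  exact h1

/-- every element of order 3 of `A12` commutes with a conjugate of `W0` -/
theorem exists_s {x : G} (hx : orderOf x = 3) (hxA : x ∈ Φ.range) : ∃ s, IsConj s W0 ∧ x * s = s * x := by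
  obtain ⟨f, rfl⟩ := hxA
  rw [orderOf_injective Φ Φ_inj] at hx
  obtain ⟨u, hu, huf⟩ := HNPerm.exists_inv hx
  refine exists_two (u := Φ u) (by rw [orderOf_injective Φ Φ_inj, hx]) (by rw [orderOf_injective Φ Φ_inj, hu]) ?_
  rw [← map_mul, ← huf, map_mul]

theorem s_sq {s : G} (hs : IsConj s W0) : s * s = 1 := by
  obtain ⟨c, hc⟩ := isConj_iff.1 hs.symm
  rw [← hc]
  calc c * W0 * c⁻¹ * (c * W0 * c⁻¹) = c * (W0 * W0) * c⁻¹ := by group
    _ = 1 := by rw [W0_sq]; group

/-- the elements of `C ∩ P` have order 3 -/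
theorem cube_eq_one (h : Min 3 C) {P : Sylow 3 G} {R : Subgroup G} (hRA : R ≤ Φ.range)
    (hi : (R.subgroupOf (P : Subgroup G)).index = 3) (hn : (R.subgroupOf (P : Subgroup G)).Normal) {e : G}
    (he : e ∈ C) (heP : e ∈ (P : Subgroup G)) : e ^ 3 = 1 := by
  obtain ⟨j, hj⟩ := h.pel e he
  rcases j with _ | k
  · rw [pow_zero, orderOf_eq_one_iff] at hj
    rw [hj, one_pow]
  rcases k with _ | k
  · rw [zero_add, pow_one] at hj
    rw [← hj, pow_orderOf_eq_one]
  exfalso
  have he1 : e ≠ 1 := by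
    intro h1
    rw [h1, orderOf_one] at hj
    have h2 : 1 < 3 ^ (k + 1 + 1) := Nat.one_lt_pow (by omega) (by norm_num)
    omega
  have hx : orderOf (e ^ 3 ^ (k + 1)) = 3 := by
    rw [orderOf_pow, hj, Nat.gcd_eq_right (pow_dvd_pow 3 (Nat.le_succ _)), pow_succ _ (k + 1), mul_comm,
      Nat.mul_div_cancel _ (Nat.pow_pos (by norm_num))]
  have hxA : e ^ 3 ^ (k + 1) ∈ Φ.range := by
    rw [pow_succ, mul_comm, pow_mul]
    exact pow_mem (hRA (cube_mem hi hn heP)) _
  obtain ⟨s, hs, hc⟩ := exists_s hx hxA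
  obtain ⟨y, hys, hy, -, -, -⟩ := Min.exists_comm_order h (by norm_num) (core_G 3) center_G he he1 heP
    (fun d hd hdP => comm_P h hRA hi hn he heP hd hdP) hj (s_sq hs) hc.symm
  refine no_sq_W0 (p := 3) (Or.inl rfl) (y := y ^ 3 ^ k) hs ?_ ?_
  · have h4 : Commute y s := hys
    exact (h4.pow_left _).eq
  · rw [orderOf_pow, hy, Nat.gcd_eq_right (pow_dvd_pow 3 (by omega)), show k + 1 + 1 = k + 2 by rfl, pow_add,
      mul_comm, Nat.mul_div_cancel _ (Nat.pow_pos (by norm_num))]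

/-- `|W|` divides 27 -/
theorem card_W (h : Min 3 C) {P : Sylow 3 G} {R : Subgroup G} (hRA : R ≤ Φ.range)
    (hi : (R.subgroupOf (P : Subgroup G)).index = 3) (hn : (R.subgroupOf (P : Subgroup G)).Normal) {e : G}
    (he : e ∈ C) (he1 : e ≠ 1) (heP : e ∈ (P : Subgroup G)) : Nat.card (W C (P : Subgroup G)) ∣ 27 := by
  have hcomm : ∀ c ∈ C, c ∈ (P : Subgroup G) → ∀ w ∈ W C (P : Subgroup G), c * w = w * c :=
    fun c hc hcP w hw => comm_W (fun d hd hdP => comm_P h hRA hi hn hc hcP hd hdP) hw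
  have hcube : ∀ w ∈ W C (P : Subgroup G), w ^ 3 = 1 := by
    have hab : ∀ w ∈ W C (P : Subgroup G), ∀ w' ∈ W C (P : Subgroup G), w * w' = w' * w := by
      intro w hw w' hw'
      have h1 : W C (P : Subgroup G) ≤ centralizer {w'} := by
        refine (closure_le _).2 ?_
        rintro y ⟨hy, hyP⟩
        exact mem_centralizer_singleton_iff.2 (hcomm y hy hyP w' hw')
      exact mem_centralizer_singleton_iff.1 (h1 hw)
    intro w hw
    induction hw using Subgroup.closure_induction with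
    | mem x hx => exact cube_eq_one h hRA hi hn hx.1 hx.2
    | one => exact one_pow 3
    | mul x y hx hy ihx ihy =>
      have h1 : Commute x y := hab x hx y hy
      rw [h1.mul_pow, ihx, ihy, one_mul]
    | inv x hx ihx => rw [inv_pow, ihx, inv_one]
  -- the intersection with `A12`
  have h9 : Nat.card ((W C (P : Subgroup G)).comap Φ) ∣ 9 := by
    apply HNPerm.card_dvd_nine
    intro f hf hf1
    have hf3 : orderOf f = 3 := by
      apply orderOf_eq_prime _ hf1
      apply Φ_inj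
      rw [map_pow, map_one, hcube _ hf]
    refine support_nine hf3 fun s hs => ?_
    exact no_T2 h he he1 (by rw [orderOf_injective Φ Φ_inj, hf3]) hs (hcomm e he heP _ hf)
  have h1 : Nat.card (R.subgroupOf (W C (P : Subgroup G))) ∣ 9 := by
    refine Nat.dvd_trans ?_ h9
    have e1 : Nat.card (R.subgroupOf (W C (P : Subgroup G))) =
        Nat.card ((R.subgroupOf (W C (P : Subgroup G))).map (W C (P : Subgroup G)).subtype) :=
      Nat.card_congr ((R.subgroupOf (W C (P : Subgroup G))).equivMapOfInjective _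
        (W C (P : Subgroup G)).subtype_injective).toEquiv
    have e2 : Nat.card ((W C (P : Subgroup G)).comap Φ) = Nat.card (((W C (P : Subgroup G)).comap Φ).map Φ) :=
      Nat.card_congr (((W C (P : Subgroup G)).comap Φ).equivMapOfInjective _ Φ_inj).toEquiv
    rw [e1, e2]
    apply Subgroup.card_dvd_of_le
    rintro _ ⟨⟨w, hw⟩, hwR, rfl⟩
    obtain ⟨f, hf⟩ := hRA hwR
    refine ⟨f, ?_, hf⟩
    change Φ f ∈ W C (P : Subgroup G)
    rw [hf]
    exact hw
  have h2 : R.relIndex (W C (P : Subgroup G)) ∣ 3 := by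
    have h4 := relIndex_dvd_index_of_normal (R.subgroupOf (P : Subgroup G)) ((W C (P : Subgroup G)).subgroupOf (P : Subgroup G))
    rwa [relIndex_subgroupOf (W_le : W C (P : Subgroup G) ≤ (P : Subgroup G)), hi] at h4
  have h3 := (R.subgroupOf (W C (P : Subgroup G))).card_mul_index
  rw [← h3]
  exact Nat.mul_dvd_mul h1 h2

theorem crow_three : CRow 3 G := by
  intro C h c hc
  by_contra hc1
  obtain ⟨P, R, hRA, hRP, hi, hn, hR1⟩ := exists_PR
  obtain ⟨e, he, he1, heP⟩ := h.exists_mem_sylow hc hc1 P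
  -- the central element
  have hN1 : R.subgroupOf (P : Subgroup G) ≠ ⊥ := by
    intro h1
    rw [subgroupOf_eq_bot, disjoint_iff, inf_eq_left.2 hRP] at h1
    exact hR1 h1
  obtain ⟨z, hz, hzc, hz3⟩ := Cfsg.Agent.Transfer.PGroupNormal.exists_mem_inf_center_orderOf (p := 3) P.2
    (R.subgroupOf (P : Subgroup G)) hN1
  have hr3 : orderOf (z : G) = 3 := by rw [Subgroup.orderOf_coe, hz3]
  have hrA : (z : G) ∈ Φ.range := hRA hz
  have hr1 : (z : G) ≠ 1 := by
    intro h1
    rw [h1, orderOf_one] at hr3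
    norm_num at hr3
  have her : e * z = z * e := congrArg Subtype.val (mem_center_iff.1 hzc ⟨e, heP⟩)
  obtain ⟨s, hs, hsz⟩ := exists_s hr3 hrA
  rcases T1_or_T2 hr3 hs hsz with hT | hT
  swap
  · exact no_T2 h he he1 hr3 hT her
  obtain ⟨f₁, f₂, h1, h1r, h2, h2r, hodd⟩ := exists_fives hr3 hT
  obtain ⟨-, hM, -⟩ := h.centralizer_of_comm (core_G 3) center_G he he1 hr1 her heP
  have hW := card_W h hRA hi hn he he1 heP
  have key : ∀ f : G, f ^ 5 = 1 → f * z = z * f → f * e = e * f := by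
    intro f hf5 hfz
    have hfM : f ∈ M C (P : Subgroup G) := hM (mem_centralizer_singleton_iff.2 hfz)
    exact five_comm hW hf5 (fun u hu => (mem_normalizer_iff.1 hfM u).1 hu) e (mem_W he heP)
  apply hodd
  refine odd_of_comm h he he1 ?_
  rw [mul_assoc, key f₂ h2 h2r, ← mul_assoc, key f₁ h1 h1r, mul_assoc]

end Cfsg.Agent.H755.CC.HNThree
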