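import Cfsg.Agent.H755.CC.HNBase
import Cfsg.Agent.H536.T5.HNRow

/-!
# The row `CRow 5 HN` (helper755)
-/

set_option autoImplicit false

namespace Cfsg.Agent.H755.CC.HNFive

open Subgroup Cfsg Cfsg.Agent.H162.CCR Cfsg.Agent.H755.CC.HNB
open Cfsg.Agent.HN.Pres Cfsg.Agent.HN.P1408 Cfsg.Agent.HN.H0Basic
open Cfsg.Agent.HN.XWords (W0 W0_sq)
open Cfsg.Agent.HN.NormalH (ψ)
open Cfsg.Agent.KFacts.HN
open Cfsg.Agent.CpAutHNFive.HTab Cfsg.Agent.CpAutHNFive.HFacts

attribute [local instance] finite_G simple_G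

local instance : Fact (Nat.Prime 5) := ⟨Nat.prime_five⟩

/-- the Sylow 5-subgroups of `2.HS.2` have exponent 5 -/
theorem H0_pow {x : H0} {n : ℕ} (hx : x ^ 5 ^ n = 1) : x ^ 5 = 1 := by
  have hcard := card_closure c5 d5 z5 z1 cz dz cd
  have hfac : (Nat.card H0).factorization 5 = 3 := by
    rw [Cfsg.Agent.HN.H0Basic.card_H0, show (177408000 : ℕ) = 5 ^ 3 * 1419264 by norm_num]
    have h2 : (1419264 : ℕ).factorization 5 = 0 := Nat.factorization_eq_zero_of_not_dvd (by norm_num)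
    rw [Nat.factorization_mul (by norm_num) (by norm_num), Nat.Prime.factorization_pow Nat.prime_five,
      Finsupp.add_apply, h2, Finsupp.single_eq_same]
  let P : Sylow 5 H0 := Sylow.ofCard (closure ({hw wc, hw wd} : Set H0)) (by rw [hfac]; exact hcard)
  have hxp : IsPGroup 5 ↥(zpowers x) := by
    obtain ⟨k, -, hk⟩ := (Nat.dvd_prime_pow Nat.prime_five).1 (orderOf_dvd_of_pow_eq_one hx)
    exact IsPGroup.of_card (n := k) (by rw [Nat.card_zpowers, hk])
  obtain ⟨Q, hQ⟩ := hxp.exists_le_sylow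
  obtain ⟨g, hg⟩ := MulAction.exists_smul_eq H0 Q P
  have h1 : g * x * g⁻¹ ∈ (P : Subgroup H0) := by
    rw [← hg, Sylow.coe_subgroup_smul]
    exact ⟨x, hQ (mem_zpowers x), rfl⟩
  have h2 : g * x * g⁻¹ ∈ closure ({hw wc, hw wd} : Set H0) := h1
  obtain ⟨i, hi, j, hj, k, hk, h3⟩ := mem_nf c5 d5 z5 cz dz cd h2
  by_cases h0 : i = 0 ∧ j = 0 ∧ k = 0
  · obtain ⟨rfl, rfl, rfl⟩ := h0
    rw [pow_zero, pow_zero, pow_zero, one_mul, one_mul, conj_eq_one_iff] at h3
    rw [h3, one_pow]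
  · obtain ⟨u, m, -, -, w, hw', h4⟩ := table hi hj hk h0
    have h5 : hw w ^ 5 = 1 := by
      rcases hw' with rfl | rfl | rfl
      · exact w1_five
      · exact w2_five
      · exact w3_five
    rw [← h3] at h4
    have h6 : (u⁻¹ * (g * x * g⁻¹) * u) ^ 5 = 1 := by
      rw [h4, ← pow_mul, mul_comm, pow_mul, h5, one_pow]
    have h7 : (u⁻¹ * (g * x * g⁻¹) * u) ^ 5 = (u⁻¹ * g) * x ^ 5 * (u⁻¹ * g)⁻¹ := by
      rw [← conj_pow]
      congr 1
      group
    rw [h7, conj_eq_one_iff] at h6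
    exact h6

/-- no element of order 25 commutes with an involution -/
theorem no_sq {s y : G} (hs1 : s ≠ 1) (hs : s * s = 1) (hys : y * s = s * y) : orderOf y ≠ 5 ^ 2 := by
  have h2 : orderOf s = 2 := orderOf_eq_prime (by rw [pow_two, hs]) hs1
  rcases Classes.inv_class h2 with h | h
  · intro hy
    obtain ⟨c, hc⟩ := isConj_iff.1 h
    have h1 : (c * y * c⁻¹) * (Cfsg.Agent.HN.NormalH.ψ τ : G) = Cfsg.Agent.HN.NormalH.ψ τ * (c * y * c⁻¹) := by
      rw [← hc]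
      calc c * y * c⁻¹ * (c * s * c⁻¹) = c * (y * s) * c⁻¹ := by group
        _ = c * (s * y) * c⁻¹ := by rw [hys]
        _ = _ := by group
    obtain ⟨x, hx⟩ := emb.cent _ h1
    have h3 : x ^ 5 ^ 2 = 1 := by
      apply emb.inj
      rw [map_pow, hx, map_one, conj_pow, ← hy, pow_orderOf_eq_one]
      group
    have h4 := H0_pow h3
    have h5 : (c * y * c⁻¹) ^ 5 = 1 := by rw [← hx, ← map_pow, h4, map_one]
    rw [conj_pow, conj_eq_one_iff] at h5
    have h6 := orderOf_dvd_of_pow_eq_one h5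
    rw [hy] at h6
    norm_num at h6
  · exact no_sq_W0 (Or.inr rfl) h hys

theorem crow_five : CRow 5 G := by
  refine crow_of_involutions (by norm_num) (core_G 5) center_G (core_inv (by norm_num)) ?_
    (fun s y hs1 hs hys => no_sq hs1 hs hys)
  intro x hx
  obtain ⟨_, _, _, _, _, _, D⟩ := Cfsg.Agent.H536.T5.dat
  obtain ⟨s, hs, hs1, hsx⟩ := D.exists_inv (by rw [card_G]; norm_num) hx
  exact ⟨s, hs1, hs, hsx⟩

end Cfsg.Agent.H755.CC.HNFive
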