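import Cfsg.Agent.H755.CC.HNThree
import Cfsg.Agent.H755.CC.HNFive

/-!
# The row of the Harada-Norton group (S3828, helper755)
-/

set_option autoImplicit false

namespace Cfsg.Agent.H755.CC.HNRow

open Cfsg Cfsg.Agent.H162.CCR

/-- **The row `CRow p HN`.** -/
theorem crow_hn {G : Type*} [Group G] (h : Spor.IsoHN G) (p : ℕ) [hp : Fact p.Prime] : CRow p G := by
  obtain ⟨e⟩ := h
  refine CRow.of_equiv e ?_
  by_cases h2 : p = 2
  · subst h2
    exact HNB.crow_two
  by_cases h3 : p = 3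
  · subst h3
    exact HNThree.crow_three
  by_cases h5 : p = 5
  · subst h5
    exact HNFive.crow_five
  · refine HNB.crow_cyc h2 ?_
    intro h1
    have e1 : (273030912000000 : ℕ) = 2 ^ 14 * (3 ^ 6 * (5 ^ 6 * (7 * (11 * 19)))) := by norm_num
    have hc : ∀ {q : ℕ}, q.Prime → p ≠ q → Nat.Coprime (p ^ 2) q := fun hq hne =>
      Nat.Coprime.pow_left 2 ((Nat.coprime_primes hp.out hq).2 hne)
    rw [e1] at h1
    have h4 := ((hc Nat.prime_two h2).pow_right 14).dvd_of_dvd_mul_left h1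
    have h6 := ((hc Nat.prime_three h3).pow_right 6).dvd_of_dvd_mul_left h4
    have h7 := ((hc Nat.prime_five h5).pow_right 6).dvd_of_dvd_mul_left h6
    have h8 : p ∣ 7 * (11 * 19) := (dvd_pow_self p two_ne_zero).trans h7
    have h9 : p = 7 ∨ p = 11 ∨ p = 19 := by
      rcases (Nat.Prime.dvd_mul hp.out).1 h8 with h10 | h10
      · exact Or.inl ((Nat.prime_dvd_prime_iff_eq hp.out (by norm_num)).1 h10)
      · rcases (Nat.Prime.dvd_mul hp.out).1 h10 with h11 | h11
        · exact Or.inr (Or.inl ((Nat.prime_dvd_prime_iff_eq hp.out (by norm_num)).1 h11))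
        · exact Or.inr (Or.inr ((Nat.prime_dvd_prime_iff_eq hp.out (by norm_num)).1 h11))
    rcases h9 with rfl | rfl | rfl <;> norm_num at h7

end Cfsg.Agent.H755.CC.HNRow
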