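import Cfsg.Agent.H755.CC.ZTrick
import Cfsg.Agent.CpAutHN.Second
import Cfsg.Agent.SigZeroHN.Main
import Cfsg.Agent.KFacts.HN.Large
import Cfsg.Agent.KFacts.HN.PCard
import Cfsg.Agent.S1701

/-!
# The rows `CRow p HN`: basic facts and the primes 2, 7, 11, 19 (helper755)
-/

set_option autoImplicit false

namespace Cfsg.Agent.H755.CC.HNB

open Subgroup Cfsg Cfsg.Agent.H162.CCR Cfsg.Agent.Lib.Cores
open Cfsg.Agent.HN.Pres Cfsg.Agent.HN.H0Basic
open Cfsg.Agent.HN.XWords (W0 W0_sq)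
open Cfsg.Agent.HN.NormalH (ψ)
open Cfsg.Agent.KFacts.HN

/-- the group -/
abbrev G : Type := Cfsg.Spor.HN

theorem card_G : Nat.card G = 273030912000000 := Cfsg.Agent.S1701.result.2

theorem finite_G : Finite G := Nat.finite_of_card_ne_zero (by rw [card_G]; norm_num)

theorem simple_G : IsSimpleGroup G := Cfsg.Agent.S1701.result.1

attribute [local instance] finite_G simple_G

theorem na_G : ¬ IsMulCommutative G := by
  intro hc
  let _ : CommGroup G := { (inferInstance : Group G) with mul_comm := hc.is_comm.comm }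
  have := IsSimpleGroup.prime_card (α := G)
  rw [card_G] at this
  exact absurd this (by norm_num)

theorem center_G : center G = ⊥ := by
  rcases (inferInstance : (center G).Normal).eq_bot_or_eq_top with h | h
  · exact h
  · exfalso
    apply na_G
    exact ⟨⟨fun x y => (mem_center_iff.1 (by rw [h]; exact mem_top y : y ∈ center G) x)⟩⟩

theorem core_G (p : ℕ) [Fact p.Prime] : pCore p G = ⊥ := pCore_eq_bot_of_simple na_G p

theorem centralizer_ne_top {t : G} (ht : t ≠ 1) : centralizer ({t} : Set G) ≠ ⊤ := by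
  intro h
  apply ht
  have h1 : t ∈ center G := by
    rw [mem_center_iff]
    intro g
    have h2 : g ∈ centralizer ({t} : Set G) := by rw [h]; trivial
    exact mem_centralizer_singleton_iff.1 h2
  rw [center_G] at h1
  simpa using h1

/-- centralizers of conjugate elements -/
theorem equiv_of_conj {X : Type*} [Group X] {g h : X} (H : IsConj g h) :
    Nonempty (↥(centralizer ({g} : Set X)) ≃* ↥(centralizer ({h} : Set X))) := by
  obtain ⟨c, rfl⟩ := isConj_iff.1 H
  have h1 : (centralizer ({g} : Set X)).map (MulAut.conj c).toMonoidHom = centralizer ({c * g * c⁻¹} : Set X) := by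
    ext y
    rw [mem_centralizer_singleton_iff, mem_map]
    constructor
    · rintro ⟨z, hz, rfl⟩
      rw [mem_centralizer_singleton_iff] at hz
      change c * z * c⁻¹ * (c * g * c⁻¹) = c * g * c⁻¹ * (c * z * c⁻¹)
      calc c * z * c⁻¹ * (c * g * c⁻¹) = c * (z * g) * c⁻¹ := by group
        _ = c * (g * z) * c⁻¹ := by rw [hz]
        _ = _ := by group
    · intro hy
      refine ⟨c⁻¹ * y * c, ?_, ?_⟩
      · rw [mem_centralizer_singleton_iff]
        calc c⁻¹ * y * c * g = c⁻¹ * (y * (c * g * c⁻¹)) * c := by group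
          _ = c⁻¹ * (c * g * c⁻¹ * y) * c := by rw [hy]
          _ = g * (c⁻¹ * y * c) := by group
      · change c * (c⁻¹ * y * c) * c⁻¹ = y
        group
  exact ⟨((centralizer ({g} : Set X)).equivMapOfInjective (MulAut.conj c).toMonoidHom
    (MulAut.conj c).injective).trans (MulEquiv.subgroupCongr h1)⟩

theorem core_congr {X Y : Type*} [Group X] [Group Y] (e : X ≃* Y) {p : ℕ} (h : pCore p X = ⊥) : pCore p Y = ⊥ := by
  rw [← map_equiv_pCore e p, h, Subgroup.map_bot]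

/-- `O_p(2.HS.2) = 1` -/
theorem core_H0 {p : ℕ} [hp : Fact p.Prime] (hp2 : p ≠ 2) : pCore p H0 = ⊥ := by
  by_contra h
  have h1 := Cfsg.Agent.HN.NormalH.mem_of_normal card_H0 τ_ne_one (pCore p H0) inferInstance h
  have h2 : IsPGroup p (pCore p H0) := pCore_isPGroup p
  obtain ⟨k, hk⟩ := h2 ⟨gx ^ 2, h1⟩
  have h3 : (τ : H0) ^ p ^ k = 1 := congrArg Subtype.val hk
  have h4 : orderOf τ = 2 := orderOf_eq_prime τ_sq τ_ne_one
  have h5 := orderOf_dvd_of_pow_eq_one h3
  rw [h4] at h5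
  exact hp2 ((Nat.prime_dvd_prime_iff_eq Nat.prime_two hp.out).1 (Nat.prime_two.dvd_of_dvd_pow h5)).symm

theorem range_ψ : (ψ : H0 →* G).range = centralizer ({ψ τ} : Set G) := by
  ext x
  rw [mem_centralizer_singleton_iff]
  constructor
  · rintro ⟨y, rfl⟩
    rw [← map_mul, ← map_mul, τ_comm]
  · intro h
    obtain ⟨y, hy⟩ := emb.cent x h
    exact ⟨y, hy⟩

theorem core_τ {p : ℕ} [hp : Fact p.Prime] (hp2 : p ≠ 2) : pCore p (centralizer ({ψ τ} : Set G)) = ⊥ :=
  core_congr ((MonoidHom.ofInjective emb.inj).trans (MulEquiv.subgroupCongr range_ψ)) (core_H0 hp2)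

theorem orderOf_W0 : orderOf W0 = 2 := orderOf_eq_prime (by rw [pow_two]; exact W0_sq) W0_ne

theorem RS_two : IsPGroup 2 RS := Cfsg.Agent.CpAutHN.PPFacts.isPGroup_ker.map _

/-- `O_p(C(W0)) = 1` -/
theorem core_W0 {p : ℕ} [hp : Fact p.Prime] (hp2 : p ≠ 2) : pCore p (centralizer ({W0} : Set G)) = ⊥ := by
  rw [eq_bot_iff]
  intro x hx
  have hxP : (x : G) ∈ PP := x.2
  have hpx : IsPGroup p (pCore p (centralizer ({W0} : Set G))) := pCore_isPGroup p
  have h1 : ∀ y ∈ RS, (x : G) * y = y * x := by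
    intro y hy
    have hyP : y ∈ centralizer ({W0} : Set G) := RS_le_PP hy
    -- the commutator
    have h2 : x * ⟨y, hyP⟩ * x⁻¹ * (⟨y, hyP⟩ : centralizer ({W0} : Set G))⁻¹ ∈ pCore p (centralizer ({W0} : Set G)) := by
      have e : x * ⟨y, hyP⟩ * x⁻¹ * (⟨y, hyP⟩ : centralizer ({W0} : Set G))⁻¹ =
          x * (⟨y, hyP⟩ * x⁻¹ * (⟨y, hyP⟩ : centralizer ({W0} : Set G))⁻¹) := by group
      rw [e]
      exact mul_mem hx ((inferInstance : (pCore p (centralizer ({W0} : Set G))).Normal).conj_mem _ (inv_mem hx) _)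
    have h3 : (x : G) * y * (x : G)⁻¹ * y⁻¹ ∈ RS := mul_mem (conj_RS hxP hy) (inv_mem hy)
    obtain ⟨k, hk⟩ := hpx ⟨_, h2⟩
    obtain ⟨j, hj⟩ := RS_two ⟨_, h3⟩
    have hk' : ((x : G) * y * (x : G)⁻¹ * y⁻¹) ^ p ^ k = 1 := congrArg Subtype.val (congrArg Subtype.val hk)
    have hj' : ((x : G) * y * (x : G)⁻¹ * y⁻¹) ^ 2 ^ j = 1 := congrArg Subtype.val hj
    have h4 := Nat.dvd_gcd (orderOf_dvd_of_pow_eq_one hk') (orderOf_dvd_of_pow_eq_one hj')
    have h5 : Nat.gcd (p ^ k) (2 ^ j) = 1 :=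
      Nat.Coprime.pow _ _ ((Nat.coprime_primes hp.out Nat.prime_two).2 hp2)
    rw [h5, Nat.dvd_one, orderOf_eq_one_iff] at h4
    have h6 := mul_inv_eq_one.1 h4
    exact mul_inv_eq_iff_eq_mul.1 h6
  rcases cent_RS h1 with h2 | h2
  · rw [mem_bot]
    exact Subtype.ext h2
  · exfalso
    obtain ⟨k, hk⟩ := hpx ⟨x, hx⟩
    have hk' : (x : G) ^ p ^ k = 1 := congrArg Subtype.val (congrArg Subtype.val hk)
    rw [h2] at hk'
    have h5 := orderOf_dvd_of_pow_eq_one hk'
    rw [orderOf_W0] at h5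
    exact hp2 ((Nat.prime_dvd_prime_iff_eq Nat.prime_two hp.out).1 (Nat.prime_two.dvd_of_dvd_pow h5)).symm

theorem core_inv {p : ℕ} [hp : Fact p.Prime] (hp2 : p ≠ 2) (t : G) (ht1 : t ≠ 1) (ht : t * t = 1) :
    ∃ H : Subgroup G, H ≠ ⊤ ∧ centralizer {t} ≤ H ∧ pCore p H = ⊥ := by
  refine ⟨centralizer {t}, centralizer_ne_top ht1, le_rfl, ?_⟩
  have h2 : orderOf t = 2 := orderOf_eq_prime (by rw [pow_two, ht]) ht1
  rcases Classes.inv_class h2 with h | h
  · obtain ⟨e⟩ := equiv_of_conj h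
    exact core_congr e.symm (core_τ hp2)
  · obtain ⟨e⟩ := equiv_of_conj h
    exact core_congr e.symm (core_W0 hp2)

theorem card_conj {u v : G} (h : IsConj u v) :
    Nat.card (centralizer ({u} : Set G)) = Nat.card (centralizer ({v} : Set G)) := by
  obtain ⟨e⟩ := equiv_of_conj h
  exact Nat.card_congr e.toEquiv

/-- two classes of involutions -/
theorem not_conj : ¬ IsConj (ψ τ : G) W0 := by
  intro h
  have h1 := card_conj h
  rw [Classes.card_centralizer_τ, PCard.card_centralizer] at h1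
  norm_num at h1

/-- the primes dividing the order once -/
theorem crow_cyc {p : ℕ} [hp : Fact p.Prime] (hp2 : p ≠ 2) (hc : ¬ p ^ 2 ∣ 273030912000000) : CRow p G := by
  intro C h c hcC
  by_contra hc1
  apply not_conj
  refine h.isConj_of_cyclic simple_G (core_G p) (by rwa [card_G]) hcC hc1
    (fun d hd hd1 => h.odd_centralizer (core_inv hp2) hd hd1) ?_ ?_ W0_sq W0_ne
  · rw [← map_mul, τ_mul_τ, map_one]
  · intro h1
    exact τ_ne_one (emb.inj (by rw [h1, map_one]))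

theorem crow_two : CRow 2 G := by
  have : Fact (Nat.Prime 2) := ⟨Nat.prime_two⟩
  intro C h
  refine h.eq_one_of_two_abelian (core_G 2) (H := PP) (centralizer_ne_top W0_ne) ?_ ?_
  · intro h2
    have h1 := PP.card_mul_index
    have h3 : Nat.card PP = 3686400 := PCard.card_centralizer
    rw [h3, card_G] at h1
    have h4 : PP.index = 74064375 := by omega
    rw [h4] at h2
    norm_num at h2
  · intro A hA hn h2 hab x hx
    have hnor : ∀ u ∈ PP, ∀ x ∈ A, u * x * u⁻¹ ∈ A := fun u hu x hx => (mem_normalizer_iff.1 (hn hu) x).1 hx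
    have h3 : A ≤ RS := two_group_le hA (fun u hu => hnor u (MM_le_PP hu)) h2
    rcases irr h3 (fun u hu => hnor u (MM_le_PP hu)) with h4 | h4
    · rcases h4 x hx with rfl | rfl
      · exact one_mul 1
      · exact W0_sq
    · exfalso
      obtain ⟨a, ha, b, hb, hne⟩ := not_abelian
      rw [← h4] at ha hb
      exact hne (hab a ha b hb)

/-! ### No elements of order `p ^ 2` in `C(W0)`, `p = 3, 5` -/

open Cfsg.Agent.HN.XQuot Cfsg.Agent.HN.XInst in
theorem A5_pow {p : ℕ} (hp : p = 3 ∨ p = 5) {a : A5} (h : a ^ p ^ 2 = 1) : a ^ p = 1 := by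
  have h1 := orderOf_dvd_of_pow_eq_one h
  have h2 : orderOf a ∣ 60 := by
    have h3 := orderOf_dvd_natCard a
    have h4 : Nat.card A5 = 60 := by
      rw [nat_card_alternatingGroup, Nat.card_eq_fintype_card, Fintype.card_fin]
      decide
    rwa [h4] at h3
  have h3 := Nat.dvd_gcd h1 h2
  rcases hp with rfl | rfl
  · exact orderOf_dvd_iff_pow_eq_one.1 h3
  · exact orderOf_dvd_iff_pow_eq_one.1 h3

open Cfsg.Agent.HN.XQuot Cfsg.Agent.HN.XInst in
theorem Lq_pow {p : ℕ} (hp : p = 3 ∨ p = 5) {z : Lq} (h : z ^ p ^ 2 = 1) : z ^ p = 1 := by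
  have hz : z ∈ LL := by
    have hodd : Odd (p ^ 2) := by rcases hp with rfl | rfl <;> decide
    obtain ⟨m, hm⟩ := hodd
    have h2 : (z ^ 2) ^ (m + 1) = z := by
      rw [← pow_mul, show 2 * (m + 1) = p ^ 2 + 1 by omega, pow_succ, h, one_mul]
    rw [← h2]
    exact LL.pow_mem (Subgroup.sq_mem_of_index_two index_LL z) _
  obtain ⟨a, b, rfl⟩ := mem_LL.1 hz
  have hc : Commute (φA a) (φB b) := comm_AB a b
  have h3 : a ^ p ^ 2 = 1 ∧ b ^ p ^ 2 = 1 := by
    apply φ2_inj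
    rw [map_pow, map_pow, ← hc.mul_pow, h, map_one, map_one, one_mul]
  rw [hc.mul_pow, ← map_pow, ← map_pow, A5_pow hp h3.1, A5_pow hp h3.2, map_one, map_one, one_mul]

theorem PP_pow {p : ℕ} [Fact p.Prime] (hp : p = 3 ∨ p = 5) {y : G} (hy : y * W0 = W0 * y) (h : y ^ p ^ 2 = 1) :
    y ^ p = 1 := by
  have hy' : y ∈ PP := mem_PP.2 hy
  have h1 : (ρ ⟨y, hy'⟩) ^ p ^ 2 = 1 := by
    rw [← map_pow]
    have : (⟨y, hy'⟩ : PP) ^ p ^ 2 = 1 := Subtype.ext h
    rw [this, map_one]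
  have h2 := Lq_pow hp h1
  rw [← map_pow] at h2
  have h3 : (⟨y, hy'⟩ : PP) ^ p ∈ ρ.ker := h2
  obtain ⟨k, hk⟩ := Cfsg.Agent.CpAutHN.PPFacts.isPGroup_ker ⟨_, h3⟩
  have hk' : (y ^ p) ^ 2 ^ k = 1 := congrArg Subtype.val (congrArg Subtype.val hk)
  have h4 : (y ^ p) ^ p = 1 := by rw [← pow_mul, ← pow_two, h]
  have h5 := Nat.dvd_gcd (orderOf_dvd_of_pow_eq_one h4) (orderOf_dvd_of_pow_eq_one hk')
  have h6 : Nat.gcd p (2 ^ k) = 1 :=
    Nat.Coprime.pow_right _ ((Nat.coprime_primes Fact.out Nat.prime_two).2 (by omega))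
  rw [h6, Nat.dvd_one, orderOf_eq_one_iff] at h5
  exact h5

/-- an involution conjugate to `W0` commutes with no element of order `p ^ 2` -/
theorem no_sq_W0 {p : ℕ} [hpp : Fact p.Prime] (hp : p = 3 ∨ p = 5) {s y : G} (hs : IsConj s W0) (hys : y * s = s * y) :
    orderOf y ≠ p ^ 2 := by
  intro hy
  obtain ⟨c, hc⟩ := isConj_iff.1 hs
  have h1 : (c * y * c⁻¹) * W0 = W0 * (c * y * c⁻¹) := by
    rw [← hc]
    calc c * y * c⁻¹ * (c * s * c⁻¹) = c * (y * s) * c⁻¹ := by group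
      _ = c * (s * y) * c⁻¹ := by rw [hys]
      _ = _ := by group
  have h2 := PP_pow hp h1 (by rw [conj_pow, ← hy, pow_orderOf_eq_one]; group)
  rw [conj_pow, conj_eq_one_iff] at h2
  have h3 := orderOf_dvd_of_pow_eq_one h2
  rw [hy] at h3
  have h4 := Nat.le_of_dvd hpp.out.pos h3
  have h5 : p < p ^ 2 := by
    rw [pow_two]
    exact lt_mul_of_one_lt_left hpp.out.pos hpp.out.one_lt
  omega

end Cfsg.Agent.H755.CC.HNB
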