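import Cfsg.Agent.H162.CC.Tools3

/-!
# A further tool for the rows `CRow p G`, `p` odd (helper755, S3828)

`e ∈ C ∩ P` commuting with all of `C ∩ P` lies in the abelian group `Z(W)`, which is normalised by `C_G(x)` for all `x ≠ 1`
commuting with `e`. If an involution `s` commutes with `x = e ^ p ^ k` of order `p` then `y = e (s e s⁻¹)` commutes with `s` and
has the same order as `e`.

* `Min.exists_comm_order` : this element;
* `crow_of_involutions` : the row if (i) `O_p(C(t)) = 1` for all involutions `t`, (ii) all elements of order `p` commute with an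
  involution, (iii) no involution commutes with an element of order `p ^ 2`.
-/

set_option autoImplicit false

namespace Cfsg.Agent.H755.CC

open Subgroup Cfsg Cfsg.Agent.H162.CCR

variable {G : Type*} [Group G] [Finite G] {p : ℕ} [hp : Fact p.Prime] {C : Set G}

omit [Finite G] hp in
/-- an element commuting with `C ∩ P` commutes with `W` -/
theorem comm_W {P : Subgroup G} {e : G} (hcomm : ∀ d ∈ C, d ∈ P → e * d = d * e) {w : G} (hw : w ∈ W C P) :
    e * w = w * e := by
  have h1 : W C P ≤ centralizer {e} := by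
    refine (closure_le _).2 ?_
    rintro y ⟨hy, hyP⟩
    exact mem_centralizer_singleton_iff.2 (hcomm y hy hyP).symm
  exact (mem_centralizer_singleton_iff.1 (h1 hw)).symm

/-- **The trick.** -/
theorem Min.exists_comm_order (h : Min p C) (hp2 : p ≠ 2) (hO : pCore p G = ⊥) (hZ : center G = ⊥) {P : Sylow p G} {e : G}
    (he : e ∈ C) (he1 : e ≠ 1) (heP : e ∈ (P : Subgroup G)) (hcomm : ∀ d ∈ C, d ∈ (P : Subgroup G) → e * d = d * e)
    {k : ℕ} (hk : orderOf e = p ^ (k + 1)) {s : G} (hs : s * s = 1) (hsx : s * e ^ p ^ k = e ^ p ^ k * s) :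
    ∃ y : G, y * s = s * y ∧ orderOf y = p ^ (k + 1) ∧ e * y = y * e ∧ y ∈ W C (P : Subgroup G) ∧
      y ^ p ^ k = (e ^ p ^ k) ^ 2 := by
  have hx1 : e ^ p ^ k ≠ 1 := by
    intro h1
    have h2 := orderOf_dvd_of_pow_eq_one h1
    rw [hk] at h2
    have h3 := Nat.le_of_dvd (Nat.pow_pos hp.out.pos) h2
    exact absurd (Nat.pow_lt_pow_right hp.out.one_lt (Nat.lt_succ_self k)) (not_lt.2 h3)
  have hex : e * e ^ p ^ k = e ^ p ^ k * e := ((Commute.refl e).pow_right _).eq
  obtain ⟨-, hM, -⟩ := h.centralizer_of_comm hO hZ he he1 hx1 hex heP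
  have hsM : s ∈ M C (P : Subgroup G) := hM (mem_centralizer_singleton_iff.2 hsx)
  have heW : e ∈ W C (P : Subgroup G) := mem_W he heP
  have hfW : s * e * s⁻¹ ∈ W C (P : Subgroup G) := (mem_normalizer_iff.1 hsM e).1 heW
  have hef : e * (s * e * s⁻¹) = (s * e * s⁻¹) * e := comm_W hcomm hfW
  have hs' : s⁻¹ = s := inv_eq_of_mul_eq_one_left hs
  have hyk : (e * (s * e * s⁻¹)) ^ p ^ k = (e ^ p ^ k) ^ 2 := by
    have h1 : Commute e (s * e * s⁻¹) := hef
    rw [h1.mul_pow, conj_pow, hsx, mul_inv_cancel_right, pow_two]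
  have hyk1 : (e * (s * e * s⁻¹)) ^ p ^ (k + 1) = 1 := by
    rw [pow_succ, pow_mul, hyk, ← pow_mul, ← pow_mul, show p ^ k * (2 * p) = p ^ (k + 1) * 2 by ring, pow_mul,
      ← hk, pow_orderOf_eq_one, one_pow]
  refine ⟨e * (s * e * s⁻¹), ?_, ?_, ?_, mul_mem heW hfW, hyk⟩
  · rw [hs']
    have h1 : s * (e * (s * e * s)) = (s * e * s) * (s * s) * e * s := by rw [hs, mul_one]; group
    have h2 : s * (e * (s * e * s)) = (s * e * s) * e * s := by
      calc s * (e * (s * e * s)) = (s * e * s) * e * s := by group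
        _ = _ := rfl
    rw [h2]
    rw [hs'] at hef
    calc e * (s * e * s) * s = (s * e * s) * e * s := by rw [hef]
      _ = _ := rfl
  · refine orderOf_eq_prime_pow ?_ hyk1
    rw [hyk]
    intro h1
    apply hx1
    have h2 : orderOf (e ^ p ^ k) ∣ 2 := orderOf_dvd_of_pow_eq_one h1
    have h3 : orderOf (e ^ p ^ k) ∣ p ^ (k + 1) := by rw [← hk]; exact orderOf_pow_dvd _
    have h4 : Nat.Coprime 2 (p ^ (k + 1)) :=
      Nat.Coprime.pow_right _ ((Nat.coprime_primes Nat.prime_two hp.out).2 (Ne.symm hp2))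
    have h5 := Nat.dvd_gcd h2 h3
    rw [h4, Nat.dvd_one, orderOf_eq_one_iff] at h5
    exact h5
  · have h1 : Commute e (e * (s * e * s⁻¹)) := (Commute.refl e).mul_right hef
    exact h1.eq

/-- the element of `C` to which the trick applies -/
theorem Min.exists_e (h : Min p C) {c : G} (hc : c ∈ C) (hc1 : c ≠ 1) (P : Sylow p G) :
    ∃ e ∈ C, e ≠ 1 ∧ e ∈ (P : Subgroup G) ∧ (∀ d ∈ C, d ∈ (P : Subgroup G) → e * d = d * e) ∧
      ∃ k : ℕ, orderOf e = p ^ (k + 1) := by
  obtain ⟨d, hd, hd1, hdP⟩ := h.exists_mem_sylow hc hc1 P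
  obtain ⟨e, he, he1, heP, hcomm⟩ := h.exists_central hd hd1 hdP
  refine ⟨e, he, he1, heP, hcomm, ?_⟩
  obtain ⟨k, hk⟩ := h.pel e he
  rcases k with _ | k
  · rw [pow_zero, orderOf_eq_one_iff] at hk
    exact absurd hk he1
  · exact ⟨k, hk⟩

/-- **The row from the involutions.** -/
theorem crow_of_involutions (hp2 : p ≠ 2) (hO : pCore p G = ⊥) (hZ : center G = ⊥)
    (h1 : ∀ t : G, t ≠ 1 → t * t = 1 → ∃ H : Subgroup G, H ≠ ⊤ ∧ centralizer {t} ≤ H ∧ pCore p H = ⊥)
    (h2 : ∀ x : G, orderOf x = p → ∃ s : G, s ≠ 1 ∧ s * s = 1 ∧ s * x = x * s)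
    (h3 : ∀ s y : G, s ≠ 1 → s * s = 1 → y * s = s * y → orderOf y ≠ p ^ 2) : CRow p G := by
  intro C h c hc
  by_contra hc1
  obtain ⟨P⟩ : Nonempty (Sylow p G) := Sylow.nonempty
  obtain ⟨e, he, he1, heP, hcomm, k, hk⟩ := Min.exists_e h hc hc1 P
  have hx : orderOf (e ^ p ^ k) = p := by
    rw [orderOf_pow, hk, Nat.gcd_eq_right (pow_dvd_pow p (Nat.le_succ k)), pow_succ, mul_comm,
      Nat.mul_div_cancel _ (Nat.pow_pos hp.out.pos)]
  obtain ⟨s, hs1, hs, hsx⟩ := h2 _ hx
  obtain ⟨y, hys, hy, -, -, -⟩ := Min.exists_comm_order h hp2 hO hZ he he1 heP hcomm hk hs hsx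
  rcases k with _ | k
  · -- `e` itself commutes with `s`
    have h4 := h.odd_centralizer h1 he he1
    rw [pow_zero, pow_one] at hsx
    have h5 : orderOf s = 2 := orderOf_eq_prime (by rw [pow_two, hs]) hs1
    have h6 : s ∈ centralizer ({e} : Set G) := mem_centralizer_singleton_iff.2 hsx
    have h7 : 2 ∣ Nat.card (centralizer ({e} : Set G)) := by
      rw [← h5]
      have := orderOf_dvd_natCard (⟨s, h6⟩ : centralizer ({e} : Set G))
      rwa [← Subgroup.orderOf_coe] at this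
    exact (Nat.not_even_iff_odd.2 h4) (even_iff_two_dvd.2 h7)
  · refine h3 s (y ^ p ^ k) hs1 hs ?_ ?_
    · have h4 : Commute y s := hys
      exact (h4.pow_left _).eq
    · rw [orderOf_pow, hy, Nat.gcd_eq_right (pow_dvd_pow p (by omega)), show k + 1 + 1 = k + 2 by rfl, pow_add,
        mul_comm, Nat.mul_div_cancel _ (Nat.pow_pos hp.out.pos)]

end Cfsg.Agent.H755.CC
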